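import Groth.Agent.Sga3B.Chart
import Mathlib.AlgebraicGeometry.Morphisms.ClosedImmersion

/-!
# The ideal of a closed subscheme in a chart
-/

set_option autoImplicit false

universe u

open CategoryTheory MonoidalCategory CartesianMonoidalCategory MonObj GrpObj AlgebraicGeometry Limits

namespace Groth.Agent.SGA3t2b.K447.Ker

open Groth.Agent.Sga3B Cell PinMod DSPts

variable {S : Scheme.{u}} {G T : Over S} [GrpObj G] {k : Type u} [CommRing k]
  {s : Spec (CommRingCat.of k) ⟶ S} (c : Chart G s)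

/-- The ideal of a closed subscheme `T` of `G` in the chart: a point factors through `T` iff it
kills the ideal. -/
theorem exists_ideal (i : T ⟶ G) [IsClosedImmersion i.left] :
    ∃ I : Ideal c.A, ∀ (C : Type u) [CommRing C] [Algebra k C] (g : Cell.Pt k c.A C),
      (∃ t : tB s C ⟶ T, t ≫ i = c.pts C g) ↔ ∀ a ∈ I, g.hom a = 0 := by
  have hcl : IsClosedImmersion (pullback.snd i.left c.p) := inferInstance
  obtain ⟨I, e, he⟩ := IsClosedImmersion.Spec_iff.1 hcl
  refine ⟨I, fun C _ _ g => ⟨?_, ?_⟩⟩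
  · rintro ⟨t, ht⟩ a ha
    have h1 : t.left ≫ i.left = Spec.map (CommRingCat.ofHom (g.hom : c.A →+* C)) ≫ c.p := by
      rw [← Over.comp_left, ht, c.pts_left]
    let l : Spec (CommRingCat.of C) ⟶ pullback i.left c.p :=
      pullback.lift t.left (Spec.map (CommRingCat.ofHom (g.hom : c.A →+* C))) h1
    have h2 : (l ≫ e.hom) ≫ Spec.map (CommRingCat.ofHom (Ideal.Quotient.mk I)) =
        Spec.map (CommRingCat.ofHom (g.hom : c.A →+* C)) := by
      rw [Category.assoc, ← he]
      exact pullback.lift_snd _ _ _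
    obtain ⟨ψ, hψ⟩ := Spec.map_surjective (l ≫ e.hom)
    rw [← hψ, ← Spec.map_comp] at h2
    have h3 := Spec.map_injective h2
    have h4 := congrArg (fun f => f.hom a) h3
    have h5 : ψ.hom (Ideal.Quotient.mk I a) = g.hom a := h4
    rw [← h5, Ideal.Quotient.eq_zero_iff_mem.2 ha, map_zero]
  · intro h
    let ψ : c.A ⧸ I →+* C := Ideal.Quotient.lift I (g.hom : c.A →+* C) h
    have h1 : Spec.map (CommRingCat.ofHom ψ) ≫ Spec.map (CommRingCat.ofHom (Ideal.Quotient.mk I)) =
        Spec.map (CommRingCat.ofHom (g.hom : c.A →+* C)) := by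
      rw [← Spec.map_comp, ← CommRingCat.ofHom_comp]
      rfl
    have h2 : (Spec.map (CommRingCat.ofHom ψ) ≫ e.inv ≫ pullback.fst i.left c.p) ≫ i.left =
        (c.pts C g).left := by
      rw [Category.assoc, Category.assoc, pullback.condition, he, Category.assoc,
        Iso.inv_hom_id_assoc, ← Category.assoc, h1, c.pts_left]
    refine ⟨Over.homMk (Spec.map (CommRingCat.ofHom ψ) ≫ e.inv ≫ pullback.fst i.left c.p) ?_, ?_⟩
    · rw [← Over.w i, ← Category.assoc, h2, Over.w]
    · ext1
      exact h2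

end Groth.Agent.SGA3t2b.K447.Ker
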