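import Groth.Agent.SGA3t2b.K218.RankBC
import Groth.Agent.SGA3t2b.K218.Fin.PModBC
import Mathlib.Algebra.MvPolynomial.Funext

/-!
# Regular elements in subspaces of a Lie algebra and extension of the base field

* `exists_isRegular_of_baseChange` : if the base change of a subspace contains a regular element, so
  does the subspace (infinite base field);
* `mem_range_of_ev` : the common kernel of base changed functionals is the base change of their
  common kernel.
-/

set_option autoImplicit false

universe u v

open TensorProduct Module LieAlgebra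

namespace Groth.Agent.SGA3t2b.K447.Zar

open K218.RankBC K218.PModBC

attribute [local instance 100] LieRing.ofAssociativeRing

section reg

variable {k K : Type*} [Field k] [Field K] [Algebra k K] {L : Type*} [LieRing L] [LieAlgebra k L]
  [Module.Finite k L]

/-- A subspace over an infinite field contains a regular element as soon as its base change does. -/
theorem exists_isRegular_of_baseChange [Infinite k] (H : Submodule k L) (u : K ⊗[k] H)
    (hu : IsRegular K (H.subtype.baseChange K u)) : ∃ x ∈ H, IsRegular k x := by
  classical
  let b := Module.Free.chooseBasis k H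
  let φ : H →ₗ[k] Module.End k L := (LieHom.toLinearMap (ad k L)) ∘ₗ H.subtype
  rw [isRegular_def, rank_baseChange] at hu
  have h1 : ad K (K ⊗[k] L) (H.subtype.baseChange K u) =
      (LinearMap.tensorProduct k K L L ∘ₗ φ.baseChange K) u := by
    have h2 := congrArg (fun z => z (H.subtype.baseChange K u)) (ad_toLinearMap_baseChange K L
      (R := k))
    refine h2.trans ?_
    rw [LinearMap.comp_apply, LinearMap.comp_apply, LinearMap.baseChange_comp,
      LinearMap.comp_apply]
  rw [h1, ← LinearMap.polyCharpoly_coeff_eval _ (Algebra.TensorProduct.basis K b),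
    LinearMap.polyCharpoly_baseChange, Polynomial.coeff_map] at hu
  have h3 : (φ.polyCharpoly b).coeff (rank k L) ≠ 0 := by
    intro h0
    apply hu
    rw [h0, map_zero, map_zero]
  obtain ⟨x, hx⟩ : ∃ x, MvPolynomial.eval x ((φ.polyCharpoly b).coeff (rank k L)) ≠ 0 := by
    by_contra hcon
    push Not at hcon
    exact h3 (MvPolynomial.funext fun x => by rw [hcon x, map_zero])
  let y : H := b.repr.symm (Finsupp.equivFunOnFinite.symm x)
  refine ⟨y, y.2, ?_⟩
  rw [isRegular_def]
  have h4 := LinearMap.polyCharpoly_coeff_eval φ b y (rank k L)
  have h5 : (b.repr y : _ → k) = x := by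
    change ((b.repr (b.repr.symm (Finsupp.equivFunOnFinite.symm x))) : _ → k) = x
    rw [LinearEquiv.apply_symm_apply]
    rfl
  rw [h5] at h4
  rw [h4] at hx
  exact hx

end reg

section ker

variable {k : Type u} [Field k] {K : Type u} [Field K] [Algebra k K] {L : Type v} [LieRing L]
  [LieAlgebra k L] [FiniteDimensional k L]

omit [FiniteDimensional k L] in
lemma ev1_comp (f : Module.Dual k L) (q : L →ₗ[k] L) (u : K ⊗[k] L) :
    ev1 (f ∘ₗ q) u = ev1 f (q.baseChange K u) := by
  induction u with
  | zero => simp
  | add u v hu hv => rw [map_add, hu, hv, map_add, map_add]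
  | tmul r x => simp

lemma eq_zero_of_ev1 {u : K ⊗[k] L} (h : ∀ f : Module.Dual k L, ev1 f u = 0) : u = 0 := by
  let b := Module.finBasis k L
  apply (b.baseChange K).ext_elem
  intro i
  have key : ∀ w : K ⊗[k] L, (b.baseChange K).repr w i = ev1 (b.coord i) w := by
    intro w
    induction w with
    | zero => simp
    | add u v hu hv => rw [map_add, map_add, Finsupp.add_apply, hu, hv]
    | tmul r x => simp [Module.Basis.baseChange]
  rw [key, key, h, map_zero]

/-- The common kernel of base changed functionals is the base change of their common kernel. -/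
theorem mem_range_of_ev (W : Submodule k (Module.Dual k L)) (u : K ⊗[k] L)
    (h : ∀ f ∈ W, ev1 f u = 0) :
    ∃ z : K ⊗[k] W.dualCoannihilator, (W.dualCoannihilator).subtype.baseChange K z = u := by
  set H := W.dualCoannihilator with hH
  obtain ⟨H', hH'⟩ := Submodule.exists_isCompl H
  let p : L →ₗ[k] H := H.projectionOnto H' hH'
  let q : L →ₗ[k] L := LinearMap.id - H.subtype ∘ₗ p
  have hq : q.baseChange K u = 0 := by
    apply eq_zero_of_ev1
    intro f
    rw [← ev1_comp]
    apply h
    rw [← Subspace.dualCoannihilator_dualAnnihilator_eq (W := W), Submodule.mem_dualAnnihilator]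
    intro x hx
    have h1 : p x = ⟨x, hx⟩ := Submodule.projectionOnto_apply_left hH' ⟨x, hx⟩
    change f (x - ((p x : H) : L)) = 0
    rw [h1, sub_self, map_zero]
  refine ⟨p.baseChange K u, ?_⟩
  have h2 : q.baseChange K u = u - H.subtype.baseChange K (p.baseChange K u) := by
    change (LinearMap.id - H.subtype ∘ₗ p).baseChange K u = _
    rw [LinearMap.baseChange_sub, LinearMap.sub_apply, LinearMap.baseChange_id,
      LinearMap.baseChange_comp]
    rfl
  rw [h2, sub_eq_zero] at hq
  exact hq.symm

end ker

end Groth.Agent.SGA3t2b.K447.Zar
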