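import Groth.Agent.SGA3t2b.K447.AlgCase
import Groth.Agent.SGA3t2b.K447.Zar
import Groth.Agent.SGA3t2b.K447.Ker
import Groth.Agent.Sga3B.TorClosed636
import Groth.Agent.Sga3B.ChartEx
import Groth.Agent.Sga3.H799.Bc

/-!
# Regular elements in the Lie algebra of a maximal torus of a smooth affine group over an infinite
field
-/

set_option autoImplicit false

universe u

open CategoryTheory MonoidalCategory CartesianMonoidalCategory MonObj GrpObj AlgebraicGeometry
open TensorProduct

namespace Groth.Agent.SGA3t2b.K447.Desc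

open Groth.Agent.Sga3B Cell MT PinMod DSPts K929.LieDict K929.LieCell K929.LieSplit
open K218.LieP K218.PModBC K218.FinAsm Groth.Agent.Books.AffBridge

section factor

variable {k K : Type u} [Field k] [Field K] [Algebra k K] {G T : Over (Spec (CommRingCat.of k))}
  [GrpObj G] (c : Chart G (𝟙 (Spec (CommRingCat.of k))))
  (cK : Chart (Red.bc (f₀ k K) G) (𝟙 (Spec (CommRingCat.of K))))

/-- Points of the base change which factor through the base change of `T`, in the charts. -/
lemma factor_rs {e : K ⊗[k] c.A ≃ₐ[K] cK.A}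
    (he : ∀ {B : Type u} [CommRing B] [Algebra k B] (φ : K →ₐ[k] B) (g : Cell.Pt K cK.A (Via φ)),
      res e φ g = (natPt (gpts c) cK.pts cK.pts_nat).ρ φ g)
    (i : T ⟶ G) {C : Type u} [CommRing C] [Algebra k C] [Algebra K C] [IsScalarTower k K C]
    (g : Cell.Pt K cK.A C) (t : tB (𝟙 (Spec (CommRingCat.of K))) C ⟶ Red.bc (f₀ k K) T)
    (ht : cK.pts C g = t ≫ (Over.pullback (f₀ k K)).map i) :
    ∃ t' : tB (𝟙 (Spec (CommRingCat.of k))) C ⟶ T, t' ≫ i = c.pts C (rs (k := k) e g) := by
  let φ : K →ₐ[k] C := IsScalarTower.toAlgHom k K C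
  let τ : C →ₐ[K] Via φ := { (RingHom.id C) with commutes' := fun _ => rfl }
  have h1 : rs (k := k) e g = (natPt (gpts c) cK.pts cK.pts_nat).ρ φ (Cell.Pt.map τ g) := by
    rw [← he]
    rfl
  have h2 : (gpts c).pt C (rs (k := k) e g) = viaPt φ (cK.pts (Via φ) (Cell.Pt.map τ g)) := by
    rw [h1, pt_natPt]
  have h3 : cK.pts (Via φ) (Cell.Pt.map τ g) =
      (tMap (𝟙 (Spec (CommRingCat.of K))) τ ≫ t) ≫ (Over.pullback (f₀ k K)).map i := by
    rw [← cK.pts_nat, ht, Category.assoc]
  have h4 : (gpts c).pt C (rs (k := k) e g) = ((tIso φ).inv ≫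
      (BcPts.bcEquiv (f₀ k K) _ T).symm (tMap (𝟙 (Spec (CommRingCat.of K))) τ ≫ t)) ≫ i := by
    rw [h2, h3]
    change (tIso φ).inv ≫ (BcPts.bcEquiv (f₀ k K) _ G).symm _ = _
    rw [BcPts.bcEquiv_symm_comp, Category.assoc]
  refine ⟨(tI k C).inv ≫ (tIso φ).inv ≫
      (BcPts.bcEquiv (f₀ k K) _ T).symm (tMap (𝟙 (Spec (CommRingCat.of K))) τ ≫ t), ?_⟩
  have h5 : (tI k C).hom ≫ c.pts C (rs (k := k) e g) = (gpts c).pt C (rs (k := k) e g) := rfl
  rw [← cancel_epi (tI k C).hom, h5, h4]
  simp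

end factor

/-- **Regular elements in the Lie algebra of a maximal torus**, smooth affine groups over an
infinite field. -/
theorem main (k : Type u) [Field k] [Infinite k]
    (G : Over (Spec (CommRingCat.of k))) [GrpObj G] [IsAffine G.left] [Smooth G.hom]
    (T : Over (Spec (CommRingCat.of k))) [GrpObj T] (i : T ⟶ G) [IsMonHom i]
    (hT : Red.IsMaximalTorus i)
    (L : Type u) [LieRing L] [LieAlgebra k L] [Module.Finite k L]
    (m : LieS.Model G k (str k k) L) :
    ∃ w : ↥(LieS.LieR T k),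
      LieAlgebra.IsRegular k (Multiplicative.toAdd (m.e.symm (LieS.map k (str k k) i w))) := by
  have hi2 : Mono i := hT.2.1
  have haff : IsAffineHom G.hom := inferInstance
  have hcl : IsClosedImmersion i.left := TorClosed636.isClosedImmersion_of_isTorus i hT.2.2.1
  obtain ⟨c⟩ := exists_chart G (𝟙 (Spec (CommRingCat.of k)))
  let E : PMod k c.A L := ofModel c m
  obtain ⟨I, hI⟩ := Ker.exists_ideal c i
  let W : Submodule k (Module.Dual k L) := (I.restrictScalars k).map E.dl
  -- the counit vanishes on the ideal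
  have hcou : ∀ a ∈ I, cou k c.A a = 0 := by
    intro a ha
    refine (hI k (1 : Cell.Pt k c.A k)).1 ⟨1, ?_⟩ a ha
    rw [MonObj.one_comp, map_one]
  -- the base change
  let K := AlgebraicClosure k
  have hKinf : Infinite K := IsAlgClosed.instInfinite
  let GK := Red.bc (f₀ k K) G
  have hsmK : Smooth GK.hom :=
    inferInstanceAs (Smooth (Limits.pullback.snd G.hom (f₀ k K)))
  have haffK : IsAffine GK.left :=
    inferInstanceAs (IsAffine (Limits.pullback G.hom (f₀ k K)))
  have haffK' : IsAffineHom GK.hom := inferInstance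
  have hTK : Red.IsMaximalTorus ((Over.pullback (f₀ k K)).map i) :=
    Groth.Agent.Sga3.H799.Bc.isMaximalTorus_bc (f₀ k K) hT
  obtain ⟨cK⟩ := exists_chart GK (𝟙 (Spec (CommRingCat.of K)))
  let N : NatPt k K c.A cK.A := natPt (gpts c) cK.pts cK.pts_nat
  obtain ⟨e, he⟩ := N.exists_equiv
  have hm : ResMul (A := c.A) e := by
    intro B _ _ φ g h
    rw [he, he, he, map_mul]
  let EK : PMod K cK.A (K ⊗[k] L) := K218.PModBC.bc hm E
  -- a regular element of the Lie algebra of the torus over the closure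
  obtain ⟨v, hv⟩ := LieAlgebra.exists_isRegular K (K ⊗[k] L)
  obtain ⟨w, t, hwt, hch⟩ := AlgCase.exists_toral cK EK ((Over.pullback (f₀ k K)).map i) hTK v
  have hw : LieAlgebra.IsRegular K w := by
    rw [LieAlgebra.isRegular_def] at hv ⊢
    rw [hch]
    exact hv
  -- it lies in the base change of the Lie algebra of the torus
  have hker : ∀ f ∈ W, ev1 f w = 0 := by
    rintro _ ⟨a, ha, rfl⟩
    have h1 : cK.pts (DualNumber K) (EK.P w) =
        ((castD (str_eq K K)).hom ≫ t.1) ≫ (Over.pullback (f₀ k K)).map i := by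
      rw [hwt, Category.assoc]
      exact pts_inf cK (str_eq K K) _
    obtain ⟨t', ht'⟩ := factor_rs c cK he i (EK.P w) _ h1
    have h2 := (hI (DualNumber K) (rs (k := k) e (EK.P w))).1 ⟨t', ht'⟩ a ha
    have h3 : rs (k := k) e (EK.P w) = PK E w := rs_bc_P hm E w
    rw [h3] at h2
    have h4 := congrArg TrivSqZeroExt.snd h2
    exact h4
  obtain ⟨z, hz⟩ := Zar.mem_range_of_ev W w hker
  obtain ⟨x, hx, hreg⟩ := Zar.exists_isRegular_of_baseChange (K := K) W.dualCoannihilator z
    (by rw [hz]; exact hw)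
  -- the element of the Lie algebra of the torus
  have hxk : ∀ a ∈ I, (E.P x).hom a = 0 := by
    intro a ha
    apply TrivSqZeroExt.ext
    · rw [fst_of_mem (E.P_mem x), hcou a ha, map_zero]
      rfl
    · rw [Submodule.mem_dualCoannihilator] at hx
      exact hx _ ⟨a, ha, rfl⟩
  obtain ⟨t', ht'⟩ := (hI (DualNumber k) (E.P x)).2 hxk
  have h1 : (m.e (Multiplicative.ofAdd x)).1 = ((castD (str_eq k k)).inv ≫ t') ≫ i := by
    have h2 : (castD (str_eq k k)).hom ≫ (m.e (Multiplicative.ofAdd x)).1 =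
        c.pts (DualNumber k) (E.P x) := (pts_inf c (str_eq k k) _).symm
    rw [← cancel_epi (castD (str_eq k k)).hom, h2, ← ht']
    simp
  let w' : LieS.LieR T k := ⟨(castD (str_eq k k)).inv ≫ t', by
    rw [LieS.mem_Lie_iff, ← cancel_mono i, Category.assoc, ← h1, MonObj.one_comp]
    exact (m.e (Multiplicative.ofAdd x)).2⟩
  refine ⟨w', ?_⟩
  have h2 : LieS.map k (str k k) i w' = m.e (Multiplicative.ofAdd x) := by
    apply Subtype.ext
    exact h1.symm
  rw [h2, MulEquiv.symm_apply_apply, toAdd_ofAdd]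
  exact hreg

end Groth.Agent.SGA3t2b.K447.Desc
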