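import Groth.Agent.SGA3t2b.K447.Der
import Groth.Agent.SGA3t2b.K218.Ad.PMod

/-!
# The adjoint representation restricted to a subgroup with coordinate ring `R`, and its differential

`U` is a point of the group functor `Spec A` with values in the Hopf algebra `R`, multiplicative on
`K`-points (`IsHomPt`).

* `rep` : the representation of the `K`-points of `R` on the Lie algebra;
* `isAlg_rep` : it is algebraic;
* `isDer_ad` : its differential along a tangent vector `δ : R → K[ε]` mapped by `U` to `v` is `ad v`.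
-/

set_option autoImplicit false

universe u

open Groth.Agent.Sga3B Groth.Agent.Sga3B.Cell K929.LieDict K218.LieP

namespace Groth.Agent.SGA3t2b.K447.AdRep

variable {K : Type u} [Field K] {A : Type u} [CommRing A] [Algebra K A] [PtGrp K A]
  {L : Type u} [LieRing L] [LieAlgebra K L] (E : PMod K A L)
  {R : Type u} [CommRing R] [HopfAlgebra K R] (U : Cell.Pt K A R)

/-- The point `U : Spec R → Spec A` is multiplicative on `K`-points. -/
def IsHomPt : Prop := ∀ g h : RG.Pt K R,
  Cell.Pt.map (g * h).ofConv U = Cell.Pt.map g.ofConv U * Cell.Pt.map h.ofConv U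

variable {U}

lemma IsHomPt.map_one (hU : IsHomPt U) : Cell.Pt.map (1 : RG.Pt K R).ofConv U = 1 := by
  have h := hU 1 1
  rw [mul_one] at h
  exact mul_eq_left.mp h.symm

variable (U) in
/-- The adjoint representation. -/
noncomputable def rep (hU : IsHomPt U) : Representation K (RG.Pt K R) L where
  toFun g := (E.Ad (Cell.Pt.map g.ofConv U)).toLinearMap
  map_one' := by
    apply LinearMap.ext
    intro x
    change E.Ad (Cell.Pt.map (1 : RG.Pt K R).ofConv U) x = x
    rw [hU.map_one, E.Ad_one]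
  map_mul' g h := by
    apply LinearMap.ext
    intro x
    change E.Ad (Cell.Pt.map (g * h).ofConv U) x = E.Ad (Cell.Pt.map g.ofConv U)
      (E.Ad (Cell.Pt.map h.ofConv U) x)
    rw [hU, E.Ad_mul]

lemma rep_apply (hU : IsHomPt U) (g : RG.Pt K R) (x : L) :
    rep E U hU g x = E.Ad (Cell.Pt.map g.ofConv U) x := rfl

variable (U) in
/-- The conjugate of an infinitesimal point by the universal point. -/
noncomputable def cj (x : L) : Cell.Pt K A (DualNumber R) :=
  Cell.Pt.map (tinl K R) U * Cell.Pt.map (dmap (Algebra.ofId K R)) (E.P x) *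
    (Cell.Pt.map (tinl K R) U)⁻¹

lemma dmap_ofId {C : Type u} [CommRing C] [Algebra K C] (φ : R →ₐ[K] C) (x : L) :
    Cell.Pt.map (dmap φ) (Cell.Pt.map (dmap (Algebra.ofId K R)) (E.P x)) =
      Cell.Pt.map (dmap (Algebra.ofId K C)) (E.P x) := by
  rw [Cell.Pt.map_map]
  congr 1
  apply AlgHom.ext
  intro y
  apply TrivSqZeroExt.ext
  · change φ (algebraMap K R y.fst) = algebraMap K C y.fst
    rw [AlgHom.commutes]
  · change φ (algebraMap K R y.snd) = algebraMap K C y.snd
    rw [AlgHom.commutes]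

lemma map_cj {C : Type u} [CommRing C] [Algebra K C] (φ : R →ₐ[K] C) (x : L) :
    Cell.Pt.map (dmap φ) (cj E U x) = Cell.Pt.map (tinl K C) (Cell.Pt.map φ U) *
      Cell.Pt.map (dmap (Algebra.ofId K C)) (E.P x) *
        (Cell.Pt.map (tinl K C) (Cell.Pt.map φ U))⁻¹ := by
  unfold cj
  rw [Cell.Pt.map_mul, Cell.Pt.map_mul, Cell.Pt.map_inv, dmap_ofId, Cell.Pt.map_map,
    dmap_comp_tinl, ← Cell.Pt.map_map]

lemma dmap_id_K : dmap (Algebra.ofId K K) = AlgHom.id K (DualNumber K) := by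
  apply AlgHom.ext
  intro y
  rfl

/-- The function `g ↦ a (Ad g x)`. -/
noncomputable def fn (a : A) (x : L) : R := ((cj E U x).hom a).snd

lemma pt_fn (hU : IsHomPt U) (g : RG.Pt K R) (a : A) (x : L) :
    g (fn (U := U) E a x) = E.dl a (rep E U hU g x) := by
  have h1 := map_cj E (U := U) g.ofConv x
  rw [dmap_id_K, Cell.Pt.map_id, ← E.P_Ad] at h1
  have h2 := congrArg (fun z : Cell.Pt K A (DualNumber K) => (z.hom a).snd) h1
  exact h2

/-- The adjoint representation is algebraic. -/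
theorem isAlg_rep [FiniteDimensional K L] (hU : IsHomPt U) : RG.IsAlg (rep E U hU) := by
  intro f x
  obtain ⟨a, rfl⟩ := E.dl_surjective f
  exact ⟨fn (U := U) E a x, fun g => (pt_fn E hU g a x).symm⟩

lemma dmap_ofId_eps (x : L) :
    Cell.Pt.map (dmap (Algebra.ofId K (DualNumber K))) (E.P x) =
      E.Q (PMod.e2 K) PMod.e2_sq x := by
  unfold PMod.Q
  congr 1
  apply AlgHom.ext
  intro y
  rw [evs_apply]
  unfold PMod.e2
  apply TrivSqZeroExt.ext
  · simp [TrivSqZeroExt.algebraMap_eq_inl']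
  · simp [TrivSqZeroExt.algebraMap_eq_inl']

lemma tinl_P (x : L) : Cell.Pt.map (tinl K (DualNumber K)) (E.P x) =
      E.Q (PMod.e1 K) PMod.e1_sq x := by
  unfold PMod.Q
  congr 1
  apply AlgHom.ext
  intro y
  rw [evs_apply]
  unfold PMod.e1
  apply TrivSqZeroExt.ext
  · apply TrivSqZeroExt.ext <;> simp [TrivSqZeroExt.algebraMap_eq_inl']
  · simp [TrivSqZeroExt.algebraMap_eq_inl']

/-- The differential of the function `g ↦ a (Ad g x)` along `v` is `a [v, x]`. -/
theorem dl_lie (δ : R →ₐ[K] DualNumber K) (v : L) (hv : E.P v = Cell.Pt.map δ U) (a : A) (x : L) :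
    E.dl a ⁅v, x⁆ = (δ (fn (U := U) E a x)).snd := by
  have h1 := map_cj E (U := U) δ x
  rw [← hv, tinl_P, dmap_ofId_eps] at h1
  have h2 : E.Q (PMod.e1 K) PMod.e1_sq v * E.Q (PMod.e2 K) PMod.e2_sq x *
      (E.Q (PMod.e1 K) PMod.e1_sq v)⁻¹ =
        E.Q (PMod.e1 K * PMod.e2 K) PMod.e12_sq ⁅v, x⁆ * E.Q (PMod.e2 K) PMod.e2_sq x := by
    rw [E.Q_lie (PMod.e1 K) (PMod.e2 K) PMod.e1_sq PMod.e2_sq PMod.e12_sq]
    group
  rw [h2] at h1
  have h3 := congrArg (fun z : Cell.Pt K A (DualNumber (DualNumber K)) => ((z.hom a).snd).snd) h1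
  have h4 : E.Q (PMod.e1 K * PMod.e2 K) PMod.e12_sq ⁅v, x⁆ ∈ infP K A (DualNumber K) := by
    rw [mem_infP]
    apply E.Q_mem_fst
    rw [PMod.e12]
    rfl
  have h5 : E.Q (PMod.e2 K) PMod.e2_sq x ∈ infP K A (DualNumber K) := by
    rw [mem_infP]
    apply E.Q_mem_fst
    rfl
  rw [snd_mul h4 h5] at h3
  have h6 : ((E.Q (PMod.e1 K * PMod.e2 K) PMod.e12_sq ⁅v, x⁆).hom a).snd.snd = E.dl a ⁅v, x⁆ := by
    change (evs (PMod.e1 K * PMod.e2 K) PMod.e12_sq ((E.P ⁅v, x⁆).hom a)).snd.snd = _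
    rw [evs_apply, PMod.e12, E.dl_apply]
    simp [TrivSqZeroExt.algebraMap_eq_inl']
  have h7 : ((E.Q (PMod.e2 K) PMod.e2_sq x).hom a).snd.snd = 0 := by
    change (evs (PMod.e2 K) PMod.e2_sq ((E.P x).hom a)).snd.snd = _
    rw [evs_apply]
    unfold PMod.e2
    simp [TrivSqZeroExt.algebraMap_eq_inl']
  rw [TrivSqZeroExt.snd_add, h6, h7, add_zero] at h3
  exact h3.symm

/-- The differential of the adjoint representation along `v` is `ad v`. -/
theorem isDer_ad [IsAlgClosed K] [Algebra.FiniteType K R] [IsReduced R] [FiniteDimensional K L]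
    (hU : IsHomPt U) (δ : R →ₐ[K] DualNumber K) (v : L) (hv : E.P v = Cell.Pt.map δ U) :
    Der.IsDer (rep E U hU) ((TrivSqZeroExt.sndHom K K).restrictScalars K ∘ₗ δ.toLinearMap)
      (LieAlgebra.ad K L v) := by
  intro f x b hb
  obtain ⟨a, rfl⟩ := E.dl_surjective f
  have h1 : fn (U := U) E a x = b := by
    apply RG.eq_of_forall_pt (K := K)
    intro g
    exact (pt_fn E hU g a x).trans (hb g)
  rw [LieAlgebra.ad_apply, dl_lie E δ v hv a x, h1]
  rfl

end Groth.Agent.SGA3t2b.K447.AdRep
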