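import Groth.Agent.Agf.H582.ConjDict
import Groth.Agent.Sga3B.RG.BrMax
import Groth.Agent.Sga3B.RG.ConjTori
import Groth.Agent.Sga3B.RG.Rel885

/-!
# Every torus of an affine smooth group over an algebraically closed field is conjugate to a subgroup
of a given maximal torus
-/

set_option autoImplicit false

universe u

open CategoryTheory MonoidalCategory CartesianMonoidalCategory MonObj GrpObj AlgebraicGeometry
open Groth.Agent.Books.AffBridge Groth.Agent.Books.AffBridge2
open Groth.Agent.Sga3B Groth.Agent.Sga3B.RG Groth.Agent.Sga3B.RG.BrPts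
open Groth.Agent.Sga3B.RG.BrTorus Groth.Agent.Sga3B.RG.BrMax
open Groth.Agent.Agf.H582.ConjDict

namespace Groth.Agent.SGA3t2b.K447.ConjT

variable {K : Type u} [Field K] [IsAlgClosed K]

/-- **Tori are conjugate to subgroups of a given maximal torus.** -/
theorem exists_conj {G T S : Over (Spec (CommRingCat.of K))} [GrpObj G] [GrpObj T] [GrpObj S]
    [IsAffine G.left] [Smooth G.hom] (i : T ⟶ G) (hi : Red.IsMaximalTorus i)
    (hS : Red.IsTorus S) (j : S ⟶ G) [IsMonHom j] [Mono j] :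
    ∃ (g : 𝟙_ (Over (Spec (CommRingCat.of K))) ⟶ G) (f : S ⟶ T), f ≫ i = AGF.conjBy g j := by
  have hi1 : IsMonHom i := hi.1
  have hi2 : Mono i := hi.2.1
  obtain ⟨A, _, _, e, he, hft, hred⟩ := exists_hopf_of_smooth G
  have hTm : IsMaxTorusSub (ptsSub (i ≫ e.hom)) := isMaxTorusSub_of_isMaximalTorus i e hi
  have hjm : Mono (j ≫ e.hom) := mono_comp _ _
  have him : Mono (i ≫ e.hom) := mono_comp _ _
  have hSt : IsTorusSub (ptsSub (j ≫ e.hom)) := isTorusSub_ptsSub (j ≫ e.hom) hS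
  obtain ⟨T₁, hT₁, hle⟩ := hSt.exists_isMaxTorusSub
  have hcl : IsCl ((⊤ : Subgroup (Pt K A)) : Set (Pt K A)) := by
    rw [Subgroup.coe_top]
    exact isCl_univ
  obtain ⟨g, -, hg⟩ := ConjTori.exists_conj_of_le_closed hcl hT₁.1 le_top
    (fun S hS _ h => hT₁.2 S hS h) hTm.1 le_top (fun S hS _ h => hTm.2 S hS h)
  have hclo : IsClosedImmersion (i ≫ e.hom).left := isClosedImmersion_of_torus _ hi.2.2.1
  have hsm : Smooth S.hom := TorusAlgClosed.smooth_of_isTorus hS
  have hc1 : IsMonHom (AGF.conjBy (ptEquiv K A g) (j ≫ e.hom)) := inferInstance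
  obtain ⟨f, hf⟩ := exists_factor_of_le (AGF.conjBy (ptEquiv K A g) (j ≫ e.hom)) (i ≫ e.hom) (by
    rw [ptsSub_conjBy, ← hg]
    exact Subgroup.map_mono hle)
  refine ⟨ptEquiv K A g ≫ e.inv, f, ?_⟩
  rw [← cancel_mono e.hom, Category.assoc, hf, conjBy_comp, Category.assoc, Iso.inv_hom_id,
    Category.comp_id]

end Groth.Agent.SGA3t2b.K447.ConjT
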