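import Groth.Agent.SGA3t2b.K447.TorPart
import Groth.Agent.SGA3t2b.K447.ConjT
import Groth.Agent.SGA3t2b.K218.Ad.OfModel
import Groth.Agent.SGA3t2b.K218.Fin.Assemble
import Groth.Agent.SGA3t2b.K796.GenCase
import Groth.Agent.Sga3B.RG.PbBorel

/-!
# Toral parts of elements of the Lie algebra of a smooth affine group over an algebraically closed
field

`exists_toral` : for every element `v` of the Lie algebra of `G` there is an element of the Lie
algebra of a given maximal torus with the same characteristic polynomial.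
-/

set_option autoImplicit false

universe u

open CategoryTheory MonoidalCategory CartesianMonoidalCategory MonObj GrpObj AlgebraicGeometry

namespace Groth.Agent.SGA3t2b.K447.AlgCase

open Groth.Agent.Sga3B Cell PinMod DSPts K929.LieDict K929.LieCell K929.LieSplit K218.LieP
open K218.FinAsm Groth.Agent.Books.AffBridge Groth.Agent.Agf.H582.ConjDict AdRep

section univ

variable {K : Type u} [Field K] {G : Over (Spec (CommRingCat.of K))} [GrpObj G]
  (c : Chart G (𝟙 (Spec (CommRingCat.of K)))) {R : Type u} [CommRing R] [HopfAlgebra K R]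
  (β : SpecOver K R ⟶ G)

/-- The universal point of a morphism from an affine scheme. -/
noncomputable def uni : Cell.Pt K c.A R := (c.pts R).symm ((tI K R).inv ≫ β)

lemma pts_map_uni {C : Type u} [CommRing C] [Algebra K C] (φ : R →ₐ[K] C) :
    c.pts C (Cell.Pt.map φ (uni c β)) = (tI K C).inv ≫ specMap K φ ≫ β := by
  rw [← c.pts_nat, uni, MulEquiv.apply_symm_apply, ← Category.assoc, ← Category.assoc]
  congr 1

lemma isHomPt_uni [IsMonHom β] : IsHomPt (uni c β) := by
  intro g h
  apply (c.pts K).injective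
  rw [map_mul, pts_map_uni, pts_map_uni, pts_map_uni, specMap_mul, MonObj.mul_comp,
    MonObj.comp_mul]

end univ

variable {K : Type u} [Field K] [IsAlgClosed K] {G : Over (Spec (CommRingCat.of K))} [GrpObj G]
  (c : Chart G (𝟙 (Spec (CommRingCat.of K)))) {L : Type u} [LieRing L] [LieAlgebra K L]
  [FiniteDimensional K L] (E : PMod K c.A L)

/-- **Toral parts.**  Every element of the Lie algebra has the characteristic polynomial of an
element of the Lie algebra of the given maximal torus. -/
theorem exists_toral [IsAffine G.left] [Smooth G.hom] {T : Over (Spec (CommRingCat.of K))}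
    [GrpObj T] (i : T ⟶ G) [IsMonHom i] (hi : Red.IsMaximalTorus i) (v : L) :
    ∃ (w : L) (t : LieS.LieR T K), E.P w = infR c K (LieS.map K (str K K) i t) ∧
      (LieAlgebra.ad K L w).charpoly = (LieAlgebra.ad K L v).charpoly := by
  have hi2 : Mono i := hi.2.1
  -- the Borel subgroup
  obtain ⟨x, hx⟩ := exists_infR c (E.P_mem v)
  obtain ⟨B, _, b, _, hb, y, hy⟩ := K796.GenCase.main K G x
  have hb2 : IsClosedImmersion b.left := hb.2.1
  have hb3 : Smooth B.hom := hb.2.2.1
  have hb4 : ConnectedSpace B.left := hb.2.2.2.1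
  have hb5 : IsAffine B.left := K492.Basic.isAffine_of_isClosedImmersion b
  have hbm : Mono b := Groth.Agent.Books.AlgPtsGrp.mono_of_isClosedImmersion b
  obtain ⟨R, _, _, e, he, hft, hdom⟩ := exists_hopf_of_connected (K := K) B
  have hei : IsMonHom e.inv := inferInstance
  let β : SpecOver K R ⟶ G := e.inv ≫ b
  have hβ : IsMonHom β := inferInstance
  have hsol : Group.IsSolvable (RG.Pt K R) := by
    obtain ⟨n, hn⟩ := hb.2.2.2.2.1
    have h1 : Group.IsSolvable (𝟙_ (Over (Spec (CommRingCat.of K))) ⟶ B) := ⟨⟨n, hn _⟩⟩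
    let F : RG.Pt K R →* (𝟙_ (Over (Spec (CommRingCat.of K))) ⟶ B) :=
      { toFun := fun g => RG.BrPts.ptEquiv K R g ≫ e.inv
        map_one' := by rw [map_one, MonObj.one_comp]
        map_mul' := fun g h => by rw [map_mul, MonObj.mul_comp] }
    refine Group.isSolvable_of_isSolvable_injective (f := F) ?_
    intro g h hgh
    exact (RG.BrPts.ptEquiv K R).injective ((cancel_mono e.inv).1 hgh)
  have htrig : RG.Trig.IsTrig K R := RG.PbBorel.isTrig_of_isSolvable hsol
  -- the tangent vector
  let p : SpecOver K (DualNumber K) ⟶ SpecOver K R :=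
    (tI K (DualNumber K)).hom ≫ (castD (str_eq K K)).hom ≫ y.1 ≫ e.hom
  let δ : R →ₐ[K] DualNumber K := specPreimage K p
  have hδp : specMap K δ = p := specMap_specPreimage K p
  let U := uni c β
  have hU : IsHomPt U := isHomPt_uni c β
  have hv : E.P v = Cell.Pt.map δ U := by
    apply (c.pts (DualNumber K)).injective
    rw [pts_map_uni, hδp, ← hx]
    change c.pts _ (inf c (str_eq K K) x) = _
    rw [pts_inf, ← hy]
    change (castD (str_eq K K)).hom ≫ y.1 ≫ b = (tI K (DualNumber K)).inv ≫
      ((tI K (DualNumber K)).hom ≫ (castD (str_eq K K)).hom ≫ y.1 ≫ e.hom) ≫ e.inv ≫ b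
    simp
  have hδ : (tfst K K).comp δ = Bialgebra.counitAlgHom K R := by
    apply specMap_injective K
    have h1 : specMap K ((tfst K K).comp δ) = 1 := by
      rw [specMap_comp, hδp]
      change specMap K (tfst K K) ≫ (tI K (DualNumber K)).hom ≫ (castD (str_eq K K)).hom ≫
        y.1 ≫ e.hom = 1
      have h2 : LieS.zeroSec K (str K K) ≫ y.1 = 1 := y.2
      rw [← Category.assoc, ← tI_nat, Category.assoc, ← Category.assoc (tMap _ _),
        tMap_tfst_castD, Category.assoc, ← Category.assoc (LieS.zeroSec _ _), h2,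
        MonObj.one_comp, MonObj.comp_one, MonObj.comp_one]
    have h3 : specMap K (Bialgebra.counitAlgHom K R) = 1 := by
      rw [← specMap_one K (A := R) (R := K)]
      congr 1
    rw [h1, h3]
  obtain ⟨r, π, hπ, θ, w, hw, hch⟩ := TorPart.exists_toral E htrig hU δ hδ v hv
  -- conjugation into the maximal torus
  let j : SpecOver K (RG.BrTorus.KZ K r) ⟶ G := specMap K (π : R →ₐ[K] RG.BrTorus.KZ K r) ≫ β
  have hπc : IsClosedImmersion (specMap K (π : R →ₐ[K] RG.BrTorus.KZ K r)).left :=
    (Groth.Agent.Books.AffBridge2.isClosedImmersion_specMap_iff K _).2 hπ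
  have hπm : Mono (specMap K (π : R →ₐ[K] RG.BrTorus.KZ K r)) :=
    Groth.Agent.Books.AlgPtsGrp.mono_of_isClosedImmersion _
  have hπh : IsMonHom (specMap K (π : R →ₐ[K] RG.BrTorus.KZ K r)) := isMonHom_specMap K π
  have hjm : Mono j := mono_comp _ _
  have hjh : IsMonHom j := inferInstance
  obtain ⟨g, f, hf⟩ := ConjT.exists_conj i hi (RG.BrTorus.isTorus_KZ r) j
  let q : Cell.Pt K c.A K := (c.pts K).symm (toUnit _ ≫ g)
  have hq : tMap _ (tinl K K) ≫ c.pts K q = toUnit _ ≫ g := by
    rw [MulEquiv.apply_symm_apply, ← Category.assoc, toUnit_unique (_ ≫ toUnit _) (toUnit _)]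
  have hPw : c.pts (DualNumber K) (E.P (E.Ad q w)) =
      ((tI K (DualNumber K)).inv ≫ specMap K θ ≫ f) ≫ i := by
    have h1 : specMap K (θ.comp (π : R →ₐ[K] RG.BrTorus.KZ K r)) ≫ β = specMap K θ ≫ j := by
      rw [specMap_comp, Category.assoc]
    have h2 : ((tI K (DualNumber K)).inv ≫ specMap K θ ≫ f) ≫ i =
        ((tI K (DualNumber K)).inv ≫ specMap K θ) ≫ AGF.conjBy g j := by
      rw [Category.assoc, Category.assoc, hf, Category.assoc]
    rw [h2, comp_conjBy, E.P_Ad, map_mul, map_mul, map_inv, ← c.pts_nat, hq, hw, pts_map_uni]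
    change _ * ((tI K (DualNumber K)).inv ≫
      specMap K (θ.comp (π : R →ₐ[K] RG.BrTorus.KZ K r)) ≫ β) * _ = _
    rw [h1, Category.assoc]
  obtain ⟨z, hz⟩ := exists_infR c (E.P_mem (E.Ad q w))
  have hz1 : z.1 = ((castD (str_eq K K)).inv ≫ (tI K (DualNumber K)).inv ≫ specMap K θ ≫ f) ≫ i := by
    have h1 : (castD (str_eq K K)).hom ≫ z.1 = c.pts (DualNumber K) (infR c K z) :=
      (pts_inf c (str_eq K K) z).symm
    rw [← cancel_epi (castD (str_eq K K)).hom, h1, hz, hPw]
    simp
  let t : LieS.LieR T K := ⟨(castD (str_eq K K)).inv ≫ (tI K (DualNumber K)).inv ≫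
      specMap K θ ≫ f, by
    rw [LieS.mem_Lie_iff, ← cancel_mono i, Category.assoc, ← hz1, MonObj.one_comp]
    exact z.2⟩
  refine ⟨E.Ad q w, t, ?_, ?_⟩
  · rw [← hz]
    congr 1
    apply Subtype.ext
    exact hz1
  · rw [E.charpoly_ad_Ad, hch]

end Groth.Agent.SGA3t2b.K447.AlgCase
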