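import Groth.Agent.Sga3B.RG.Trig
import Groth.Agent.SGA7.K222.CharLin

/-!
# The differential of a representation of a trigonalizable group

`IsDer ρ d D` : the endomorphism `D` is the differential of `ρ` along the linear form `d` on the
coordinate ring.

* `charpoly_eq` : if the group is trigonalizable and `d`, `d'` agree on all characters, then the
  differentials along `d` and `d'` have the same characteristic polynomial.
-/

set_option autoImplicit false

universe u w

open WithConv TensorProduct Coalgebra
open Groth.Agent.Sga3B.RG Groth.Agent.Sga3B.RG.CentralPt Groth.Agent.Sga3B.RG.Trig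

namespace Groth.Agent.SGA3t2b.K447.Der

variable {K : Type u} [Field K] {A : Type u} [CommRing A] [HopfAlgebra K A]

/-- `D` is the differential of the representation `ρ` along `d`: if the matrix coefficient
`g ↦ f (ρ g x)` is given by `a`, then `f (D x) = d a`. -/
def IsDer {V : Type w} [AddCommGroup V] [Module K V] (ρ : Representation K (Pt K A) V)
    (d : A →ₗ[K] K) (D : Module.End K V) : Prop :=
  ∀ (f : Module.Dual K V) (x : V) (a : A), (∀ g : Pt K A, f (ρ g x) = g a) → f (D x) = d a

section

variable {V : Type w} [AddCommGroup V] [Module K V] {ρ : Representation K (Pt K A) V}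
  {d : A →ₗ[K] K} {D : Module.End K V}

/-- On an eigenvector with character `χ` the differential is multiplication by `d χ`. -/
lemma IsDer.apply_eigen (hD : IsDer ρ d D) {v : V} {χ : GroupLike K A}
    (hv : ∀ g, ρ g v = (g χ.val) • v) : D v = (d χ.val) • v := by
  rw [← sub_eq_zero]
  apply (Module.forall_dual_apply_eq_zero_iff K _).1
  intro f
  have h1 : f (D v) = d ((f v) • χ.val) := by
    apply hD f v
    intro g
    rw [hv g, map_smul]
    have : g.ofConv (f v • χ.val) = f v • g.ofConv χ.val := map_smul _ _ _
    change _ = g.ofConv (f v • χ.val)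
    rw [this, smul_eq_mul, smul_eq_mul, mul_comm]
  rw [map_sub, h1, map_smul, map_smul, smul_eq_mul, smul_eq_mul, mul_comm, sub_self]

/-- The differential on a quotient representation. -/
lemma IsDer.mapQ (hD : IsDer ρ d D) (U : Submodule K V) (hU : ∀ g, U ≤ U.comap (ρ g))
    (hDU : U ≤ U.comap D) : IsDer (ρ.quotient U hU) d (U.mapQ U D hDU) := by
  intro f x a h
  obtain ⟨y, rfl⟩ := Submodule.mkQ_surjective _ x
  exact hD (f.comp U.mkQ) y a (fun g => h g)

end

variable [IsAlgClosed K] [Algebra.FiniteType K A] [IsReduced A]

/-- **The differentials of a representation of a trigonalizable group along two linear forms which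
agree on characters have the same characteristic polynomial.** -/
theorem charpoly_eq_aux (hT : IsTrig K A) {d d' : A →ₗ[K] K}
    (h : ∀ χ : GroupLike K A, d χ.val = d' χ.val) (n : ℕ) :
    ∀ (V : Type u) [AddCommGroup V] [Module K V] [FiniteDimensional K V]
      (ρ : Representation K (Pt K A) V), IsAlg ρ → Module.finrank K V = n →
      ∀ D D' : Module.End K V, IsDer ρ d D → IsDer ρ d' D' → D.charpoly = D'.charpoly := by
  have hK : Infinite K := IsAlgClosed.instInfinite
  induction n with
  | zero =>
    intro V _ _ _ ρ _ hn D D' _ _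
    have hV : Subsingleton V := Module.finrank_zero_iff.1 hn
    have : D = D' := LinearMap.ext fun x => Subsingleton.elim _ _
    rw [this]
  | succ n ih =>
    intro V _ _ _ ρ hρ hn D D' hD hD'
    have hnt : Nontrivial V := Module.nontrivial_of_finrank_pos (R := K) (by omega)
    obtain ⟨v₀, hv₀, hv⟩ := hT V ρ hρ
    obtain ⟨χ, hχ⟩ := exists_groupLike hρ hv₀ hv
    let U : Submodule K V := K ∙ v₀
    have hUact : ∀ g, ∀ u ∈ U, ρ g u = (g χ.val) • u := by
      intro g u hu
      obtain ⟨c, rfl⟩ := Submodule.mem_span_singleton.1 hu
      rw [map_smul, hχ, smul_comm]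
    have hU : ∀ g, U ≤ U.comap (ρ g) := fun g u hu => by
      rw [Submodule.mem_comap, hUact g u hu]; exact U.smul_mem _ hu
    have hDa : ∀ u ∈ U, D u = (d χ.val) • u := fun u hu => hD.apply_eigen fun g => hUact g u hu
    have hDa' : ∀ u ∈ U, D' u = (d χ.val) • u := fun u hu => by
      rw [h χ]; exact hD'.apply_eigen fun g => hUact g u hu
    have hDU : U ≤ U.comap D := fun u hu => by
      rw [Submodule.mem_comap, hDa u hu]; exact U.smul_mem _ hu
    have hDU' : U ≤ U.comap D' := fun u hu => by
      rw [Submodule.mem_comap, hDa' u hu]; exact U.smul_mem _ hu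
    have hrank : Module.finrank K (V ⧸ U) = n := by
      have h1 := Submodule.finrank_quotient_add_finrank U
      have h2 : Module.finrank K U = 1 := finrank_span_singleton hv₀
      omega
    have h3 := ih (V ⧸ U) (ρ.quotient U hU) (hρ.quotient U hU) hrank
      (U.mapQ U D hDU) (U.mapQ U D' hDU') (hD.mapQ U hU hDU) (hD'.mapQ U hU hDU')
    rw [_root_.K222.CharLin.charpoly_mul U D hDU, _root_.K222.CharLin.charpoly_mul U D' hDU', h3]
    congr 2
    apply LinearMap.ext
    intro u
    apply Subtype.ext
    change D u = D' u
    rw [hDa u u.2, hDa' u u.2]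

/-- **The differentials of a representation of a trigonalizable group along two linear forms which
agree on characters have the same characteristic polynomial.** -/
theorem charpoly_eq (hT : IsTrig K A) {d d' : A →ₗ[K] K}
    (h : ∀ χ : GroupLike K A, d χ.val = d' χ.val)
    {V : Type u} [AddCommGroup V] [Module K V] [FiniteDimensional K V]
    {ρ : Representation K (Pt K A) V} (hρ : IsAlg ρ)
    {D D' : Module.End K V} (hD : IsDer ρ d D) (hD' : IsDer ρ d' D') :
    D.charpoly = D'.charpoly :=
  charpoly_eq_aux hT h _ V ρ hρ rfl D D' hD hD'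

end Groth.Agent.SGA3t2b.K447.Der
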