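import Groth.Agent.SGA3t2b.K447.AdRep
import Groth.Agent.Sga3B.RG.TrigTorus

/-!
# The toral part of a tangent vector of a connected trigonalizable group

`exists_toral` : a tangent vector of a connected trigonalizable group, acting on the Lie algebra of
an ambient group, has the same characteristic polynomial as a tangent vector of the torus dual to
the group of characters.
-/

set_option autoImplicit false

universe u

open Groth.Agent.Sga3B Groth.Agent.Sga3B.Cell K929.LieDict K218.LieP

namespace Groth.Agent.SGA3t2b.K447.TorPart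

open AdRep

variable {K : Type u} [Field K] {A : Type u} [CommRing A] [Algebra K A] [PtGrp K A]
  {L : Type u} [LieRing L] [LieAlgebra K L] (E : PMod K A L)
  {R : Type u} [CommRing R] [HopfAlgebra K R] {U : Cell.Pt K A R}

theorem exists_toral [IsAlgClosed K] [Algebra.FiniteType K R] [IsDomain R]
    [FiniteDimensional K L] (hT : RG.Trig.IsTrig K R) (hU : IsHomPt U)
    (δ : R →ₐ[K] DualNumber K) (hδ : (tfst K K).comp δ = Bialgebra.counitAlgHom K R) (v : L)
    (hv : E.P v = Cell.Pt.map δ U) :
    ∃ (r : ℕ) (π : R →ₐc[K] MonoidAlgebra K (Multiplicative (Fin r → ℤ)))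
      (_ : Function.Surjective π)
      (θ : MonoidAlgebra K (Multiplicative (Fin r → ℤ)) →ₐ[K] DualNumber K) (w : L),
      E.P w = Cell.Pt.map (θ.comp (π : R →ₐ[K] _)) U ∧
        (LieAlgebra.ad K L w).charpoly = (LieAlgebra.ad K L v).charpoly := by
  obtain ⟨r, e, π, hsurj, hπ⟩ := RG.TrigTorus.exists_torusMap hT
  let incl : MonoidAlgebra K (Multiplicative (Fin r → ℤ)) →ₐ[K] R :=
    MonoidAlgebra.lift K R (Multiplicative (Fin r → ℤ))
      ((GroupLike.valMonoidHom K R).comp e.symm.toMonoidHom)
  have hincl : ∀ m, incl (MonoidAlgebra.single m 1) = (e.symm m).val := by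
    intro m
    change MonoidAlgebra.lift K R _ _ (MonoidAlgebra.single m 1) = _
    rw [MonoidAlgebra.lift_single, one_smul]
    rfl
  let θ : MonoidAlgebra K (Multiplicative (Fin r → ℤ)) →ₐ[K] DualNumber K := δ.comp incl
  let δ' : R →ₐ[K] DualNumber K := θ.comp (π : R →ₐ[K] _)
  have hδ' : (tfst K K).comp δ' = Bialgebra.counitAlgHom K R := by
    have h1 : (tfst K K).comp θ = Bialgebra.counitAlgHom K _ := by
      rw [← AlgHom.comp_assoc, hδ]
      apply MonoidAlgebra.algHom_ext _ (Subsingleton.elim _ _)
      intro m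
      change Bialgebra.counitAlgHom K R (incl (MonoidAlgebra.single m 1)) = _
      rw [hincl]
      change Coalgebra.counit (R := K) (e.symm m).val = Coalgebra.counit (R := K)
        (MonoidAlgebra.single m (1 : K))
      rw [(e.symm m).2.counit_eq_one, MonoidAlgebra.counit_single]
      rfl
    change (tfst K K).comp (θ.comp (π : R →ₐ[K] _)) = _
    rw [← AlgHom.comp_assoc, h1]
    apply AlgHom.ext
    intro x
    exact CoalgHomClass.counit_comp_apply π x
  have hmem : Cell.Pt.map δ' U ∈ infP K A K := by
    rw [mem_infP, Cell.Pt.map_map, hδ']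
    exact hU.map_one
  obtain ⟨w, hw⟩ := E.P_surj _ hmem
  refine ⟨r, π, hsurj, θ, w, hw, ?_⟩
  refine Der.charpoly_eq hT ?_ (isAlg_rep E hU) (isDer_ad E hU δ' w hw) (isDer_ad E hU δ v hv)
  intro χ
  change (δ (incl (π χ.val))).snd = (δ χ.val).snd
  rw [hπ, hincl, MulEquiv.symm_apply_apply]

end Groth.Agent.SGA3t2b.K447.TorPart
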